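import Cfsg.Agent.H5.PD.RowG2
import Cfsg.Agent.H719.BigF4
import Cfsg.Agent.S2122

/-!
# S4246: the row of `F₄(q)` (helper5)

`Two` with the primes of order 12 and 8.
-/

set_option autoImplicit false
set_option linter.unusedSectionVars false

namespace Cfsg.Agent.H5.PD

open CoxeterSystem Subgroup Cfsg Cfsg.Lie Cfsg.Lie.ChevalleyDatum
open Cfsg.Agent.ChevalleyStructure Cfsg.Agent.ChevalleyStructure.Elts Cfsg.Agent.ChevalleyStructure.CoxeterGeom
  Cfsg.Agent.ChevalleyStructure.CoxeterGeomTypes Cfsg.Agent.Nodes.RGDChev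
open Cfsg.Agent.H378.ExcAdj Cfsg.Agent.H568.FldExc Cfsg.Agent.H70.OutCount
open Cfsg.Agent.H160.PD

universe u

/-! ### numbers -/

theorem cyc8 (q : ℕ) : (cyc 8 q : ℤ) = 1 + (q : ℤ) ^ 4 := by
  have h : (Polynomial.cyclotomic 8 ℤ).eval (q : ℤ) = 1 + (q : ℤ) ^ 4 := by
    rw [show (8 : ℕ) = 2 ^ (2 + 1) by norm_num, Polynomial.cyclotomic_prime_pow_eq_geom_sum Nat.prime_two]
    simp [Finset.sum_range_succ]
  rw [cyc, Int.natCast_natAbs, h, abs_of_nonneg (by positivity)]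

theorem cyc12 (q : ℕ) : (cyc 12 q : ℤ) = 1 - (q : ℤ) ^ 2 + (q : ℤ) ^ 4 := by
  have h : (Polynomial.cyclotomic 12 ℤ).eval (q : ℤ) = 1 - (q : ℤ) ^ 2 + (q : ℤ) ^ 4 := by
    have h := Polynomial.cyclotomic_expand_eq_cyclotomic Nat.prime_two (show 2 ∣ 6 by norm_num) ℤ
    rw [show 6 * 2 = 12 from rfl, Polynomial.cyclotomic_six] at h
    rw [← h, Polynomial.expand_eval]
    simp
    ring
  rw [cyc, Int.natCast_natAbs, h, abs_of_nonneg (by nlinarith [sq_nonneg ((q : ℤ) ^ 2 - 1), sq_nonneg (q : ℤ)])]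

theorem three_cyc12 (q : ℕ) : ¬ 3 ∣ cyc 12 q := by
  refine H719.not_dvd_of_zmod (cyc12 q) ?_
  push_cast
  generalize (q : ZMod 3) = x
  revert x
  decide +kernel

theorem two_cyc12 (q : ℕ) : ¬ 2 ∣ cyc 12 q := by
  refine H719.not_dvd_of_zmod (cyc12 q) ?_
  push_cast
  generalize (q : ZMod 2) = x
  revert x
  decide +kernel

theorem coprime_cyc812 (q : ℕ) : (cyc 12 q).Coprime (cyc 8 q) := by
  refine Nat.coprime_of_dvd fun k hk h1 h2 => ?_
  by_cases h : k = 2
  · subst h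
    exact two_cyc12 q h1
  · exact H719.RowF4.co (cyc12 q) (cyc8 q) hk h h1 h2

theorem eq_two_of_dvd_eight {t : ℕ} (ht : t.Prime) (h : t ∣ 8) : t = 2 :=
  (Nat.prime_dvd_prime_iff_eq ht Nat.prime_two).1 (ht.dvd_of_dvd_pow (show t ∣ 2 ^ 3 from h))

theorem eq_three_of_dvd_twelve {t : ℕ} (ht : t.Prime) (ht2 : t ≠ 2) (h : t ∣ 12) : t = 3 := by
  rcases ht.dvd_mul.1 (show t ∣ 2 * 6 from h) with h1 | h1
  · exact absurd ((Nat.prime_dvd_prime_iff_eq ht Nat.prime_two).1 h1) ht2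
  · exact prime_dvd_six ht ht2 h1

theorem not_dvd_1152 {r : ℕ} (hr : 3 < r) (h : r.Prime) : ¬ r ∣ 1152 := by
  intro h1
  rcases h.dvd_mul.1 (show r ∣ 2 ^ 7 * 3 ^ 2 by norm_num; exact h1) with h2 | h2
  · have := (Nat.prime_dvd_prime_iff_eq h Nat.prime_two).1 (h.dvd_of_dvd_pow h2)
    omega
  · have := (Nat.prime_dvd_prime_iff_eq h Nat.prime_three).1 (h.dvd_of_dvd_pow h2)
    omega

section F4

variable {F : Type u} [Field F] [Fintype F] {p f : ℕ} [hpF : Fact p.Prime] [CharP F p]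

theorem card_F4 (hq : Fintype.card F = p ^ f) :
    Nat.card ↥(chevF4.group F) = (p ^ f) ^ 24 * (((p ^ f) ^ 2 - 1) * (((p ^ f) ^ 6 - 1) * (((p ^ f) ^ 8 - 1) *
      ((p ^ f) ^ 12 - 1)))) := by
  rw [Cfsg.Agent.S1062.result hq]; ring

theorem v_F4 (hq : Fintype.card F = p ^ f) (hf : 0 < f) : v p ↥(chevF4.group F) = f * 24 := by
  have hp : p.Prime := Fact.out
  show (Nat.card ↥(chevF4.group F)).factorization p = f * 24
  rw [card_F4 hq, fac_mul_pow hp]
  have hq1 : 1 ≤ p ^ f := Nat.one_le_pow _ _ hp.pos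
  have hpq : p ∣ p ^ f := dvd_pow_self p hf.ne'
  rw [hp.dvd_mul, hp.dvd_mul, hp.dvd_mul]
  rintro (h | h | h | h)
  all_goals exact not_dvd_sub_one hp hq1 hpq (by norm_num) h

theorem out_F4 (hq : Fintype.card F = p ^ f) : out ↥(chevF4.group F) = Nat.gcd 2 p * f :=
  Cfsg.Agent.S2122.result p f hq

theorem fac_out_F4 (hq : Fintype.card F = p ^ f) (hf : 0 < f) {t : ℕ} (ht2 : t ≠ 2) :
    (out ↥(chevF4.group F)).factorization t = f.factorization t := by
  rw [out_F4 hq]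
  rcases (Nat.dvd_prime Nat.prime_two).1 (Nat.gcd_dvd_left 2 p) with h | h
  · rw [h, one_mul]
  · rw [h]
    exact fac_two_mul ht2 hf.ne'

theorem out_le_F4 (hq : Fintype.card F = p ^ f) (hf : 0 < f) :
    (out ↥(chevF4.group F)).factorization p ≤ f := by
  have h1 := Nat.factorization_lt p hf.ne'
  rw [out_F4 hq]
  rcases (Nat.dvd_prime Nat.prime_two).1 (Nat.gcd_dvd_left 2 p) with h | h
  · rw [h, one_mul]
    exact h1.le
  · rw [h, Nat.factorization_mul two_ne_zero hf.ne', Finsupp.add_apply, Nat.Prime.factorization Nat.prime_two,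
      Finsupp.single_apply]
    split_ifs <;> omega

theorem hout_F4 (hq : Fintype.card F = p ^ f) (hf : 0 < f) {t : ℕ} (ht : t.Prime) (ht2 : t ≠ 2)
    (htp : t ≠ p) (htS : t ∣ Nat.card ↥(chevF4.group F)) :
    (out ↥(chevF4.group F)).factorization t < v t ↥(chevF4.group F) := by
  have hp : p.Prime := Fact.out
  have hfin : Finite ↥(chevF4.group F) := by
    have : Finite (Matrix.GeneralLinearGroup chevF4.Idx F) := inferInstance
    infer_instance
  rw [fac_out_F4 hq hf ht2]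
  have h0 : ∀ i, t ∣ (p ^ f) ^ i - 1 → (p ^ f) ^ i - 1 ∣ Nat.card ↥(chevF4.group F) →
      f.factorization t < v t ↥(chevF4.group F) := fun i h1 h2 =>
    Nat.lt_of_succ_le ((ht.pow_dvd_iff_le_factorization Nat.card_pos.ne').1 ((lte hp.pos ht h1).trans h2))
  rw [card_F4 hq, ht.dvd_mul, ht.dvd_mul, ht.dvd_mul, ht.dvd_mul] at htS
  rcases htS with h | h | h | h | h
  · exact absurd ((Nat.prime_dvd_prime_iff_eq ht hp).1 (ht.dvd_of_dvd_pow (ht.dvd_of_dvd_pow h))) htp
  · exact h0 2 h (by rw [card_F4 hq]; exact Dvd.dvd.mul_left (dvd_mul_right _ _) _)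
  · exact h0 6 h (by rw [card_F4 hq]; exact Dvd.dvd.mul_left (Dvd.dvd.mul_left (dvd_mul_right _ _) _) _)
  · exact h0 8 h (by
      rw [card_F4 hq]
      exact Dvd.dvd.mul_left (Dvd.dvd.mul_left (Dvd.dvd.mul_left (dvd_mul_right _ _) _) _) _)
  · exact h0 12 h (by
      rw [card_F4 hq]
      exact Dvd.dvd.mul_left (Dvd.dvd.mul_left (Dvd.dvd.mul_left (dvd_mul_left _ _) _) _) _)

theorem tor_F4 (hq : Fintype.card F = p ^ f) (hf : 0 < f) {r m : ℕ} (hr : r.Prime)
    (hod : od (Nat.card F) r = m) (hm : m = 8 ∨ m = 12)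
    (hprim : ∀ k, r ∣ p ^ k - 1 → f * m ∣ k) :
    Tor ↥(chevF4.group F) p r (cyc m (Nat.card F)) 1152 := by
  have hp : p.Prime := Fact.out
  have hrF := Fact.mk hr
  have hfin : Finite ↥(chevF4.group F) := by
    have : Finite (Matrix.GeneralLinearGroup chevF4.Idx F) := inferInstance
    infer_instance
  have hW : Nat.card CoxeterMatrix.F₄.Group = 1152 := Cfsg.Agent.S1092.result (⟨4, CoxeterMatrix.F₄⟩, 1152) (by simp)
  have hty : IsType chevF4 4 CoxeterMatrix.F₄ := by simp [IsType, typeList]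
  have hqN : Nat.card F = p ^ f := by rw [Nat.card_eq_fintype_card, hq]
  have hq1 : 1 ≤ Nat.card F := Nat.card_pos
  have hmr : m < r := lt_of_od hr hod (by omega)
  have hcard : r ∣ Nat.card ↥(chevF4.group F) := by
    rw [card_F4 hq, ← hqN]
    have h1 : r ∣ Nat.card F ^ m - 1 := dvd_of_od_dvd hq1 (by rw [hod])
    rcases hm with rfl | rfl
    · exact h1.trans (Dvd.dvd.mul_left (Dvd.dvd.mul_left (Dvd.dvd.mul_left (dvd_mul_right _ _) _) _) _)
    · exact h1.trans (Dvd.dvd.mul_left (Dvd.dvd.mul_left (Dvd.dvd.mul_left (dvd_mul_left _ _) _) _) _)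
  have hv := v_F4 hq hf
  have ho := out_le_F4 hq hf
  rw [← hW]
  refine tor_chev hty BpExc.FamInst.inv_F4 H129.TorusChar.invC_F4 hq hf (H719.AutInv.inv_F4 _) ordF_F4 hr hod ?_ ?_ ?_
    hcard ?_ ?_ (Or.inl ⟨m, hprim, ?_⟩) ?_ ?_
  · rcases hm with rfl | rfl <;> decide
  · omega
  · omega
  · rcases hm with rfl | rfl
    · refine (H719.hasT_F4_8 (F := F) (q := Nat.card F) (Nat.card_eq_fintype_card).symm (cyc8 _)
        (cyc8 _)).cyclic_sylow (H719.dvd_red (by norm_num) hr (by omega) ?_)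
      exact Int.natCast_dvd.1 (H378.RegFin.cyclotomic_dvd hr hod (by norm_num))
    · refine (H719.hasT_F4_12 (F := F) (q := Nat.card F) (Nat.card_eq_fintype_card).symm (cyc12 _)
        (cyc12 _)).cyclic_sylow (H719.dvd_red (by norm_num) hr (by omega) ?_)
      exact Int.natCast_dvd.1 (H378.RegFin.cyclotomic_dvd hr hod (by norm_num))
  · intro x hx hcen
    refine H568.noNorm_F4 p hr hx hcen hm fun k hk => ?_
    rw [← hod]
    exact od_dvd hq1 hk
  · rcases hm with rfl | rfl <;> decide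
  · omega
  · intro s hs hs2 hsp hsm hsd x hx hsx
    exfalso
    rcases hm with rfl | rfl
    · exact hs2 (eq_two_of_dvd_eight hs hsm)
    · rw [eq_three_of_dvd_twelve hs hs2 hsm] at hsd
      exact three_cyc12 _ hsd

/-- **`Two` for `F₄(q)`.** -/
theorem row_chevF4 (hq : Fintype.card F = p ^ f) (hf : 0 < f) : Row ↥(chevF4.group F) := by
  have hp : p.Prime := Fact.out
  have hfin : Finite ↥(chevF4.group F) := by
    have : Finite (Matrix.GeneralLinearGroup chevF4.Idx F) := inferInstance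
    infer_instance
  obtain ⟨hsimp, hna⟩ := Cfsg.Agent.S1054.result (F := F) chevF4 (by simp)
  have hZ := center_eq_bot hna
  have hqN : Nat.card F = p ^ f := by rw [Nat.card_eq_fintype_card, hq]
  have hq1 : 1 ≤ Nat.card F := Nat.card_pos
  have hpq : p ∣ Nat.card F := by rw [hqN]; exact dvd_pow_self p hf.ne'
  have hty : IsType chevF4 4 CoxeterMatrix.F₄ := by simp [IsType, typeList]
  obtain ⟨r₀, hr₀, hh₀, ho₀⟩ := exists_prim' (h := 12) hp hf (by norm_num) (by rintro ⟨-, h⟩; omega)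
  obtain ⟨r₁, hr₁, hh₁, ho₁⟩ := exists_prim' (h := 8) hp hf (by norm_num) (by rintro ⟨-, h⟩; omega)
  rw [← hqN] at ho₀ ho₁
  have T0 := tor_F4 hq hf hr₀ ho₀ (Or.inr rfl) (fun k hk => (hh₀ k).1 hk)
  have T1 := tor_F4 hq hf hr₁ ho₁ (Or.inl rfl) (fun k hk => (hh₁ k).1 hk)
  have hv := v_F4 hq hf
  have ho := out_le_F4 hq hf
  have hl0 := lt_of_od hr₀ ho₀ (by norm_num)
  have hl1 := lt_of_od hr₁ ho₁ (by norm_num)
  refine Two.row hZ (two_gen (m := 7) hZ hp T0 T1 (coprime_cyc812 _) (by norm_num) ?_ ?_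
    (fun t ht ht2 htp htS => hout_F4 hq hf ht ht2 htp htS) ?_ ?_ ?_)
  · rw [hr₁.dvd_mul]
    rintro (h | h)
    · have h1 := H378.RegFin.od_of_dvd h
      rw [show od (Nat.card F) r₁ = 8 from ho₁] at h1
      omega
    · exact not_dvd_1152 (by omega) hr₁ h
  · rw [hr₀.dvd_mul]
    rintro (h | h)
    · have h1 := H378.RegFin.od_of_dvd h
      rw [show od (Nat.card F) r₀ = 12 from ho₀] at h1
      omega
    · exact not_dvd_1152 (by omega) hr₀ h
  · intro t ht ht2 htp htS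
    have hN0 : ¬ p ∣ cyc 12 (Nat.card F) := not_dvd_cyc hp hq1 hpq (by norm_num)
    have hN1 : ¬ p ∣ cyc 8 (Nat.card F) := not_dvd_cyc hp hq1 hpq (by norm_num)
    by_cases h12 : od (Nat.card F) t = 12
    · left
      intro y hy
      exact v_zero_of_dvd (H378.RegFin.cent_od hty BpExc.FamInst.inv_F4 one_ne_zero ht hy h12 (by decide)
        (by norm_num)).2 hN0
    by_cases h8 : od (Nat.card F) t = 8
    · left
      intro y hy
      exact v_zero_of_dvd (H378.RegFin.cent_od hty BpExc.FamInst.inv_F4 one_ne_zero ht hy h8 (by decide)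
        (by norm_num)).2 hN1
    right
    have h1 : (cyc 12 (Nat.card F)).factorization t = 0 := by
      refine Nat.factorization_eq_zero_of_not_dvd fun h => ?_
      by_cases h3 : t ∣ 12
      · rw [eq_three_of_dvd_twelve ht ht2 h3] at h
        exact three_cyc12 _ h
      · exact h12 (od_eq_of_dvd ht h3 h)
    have h2 : (cyc 8 (Nat.card F)).factorization t = 0 := by
      refine Nat.factorization_eq_zero_of_not_dvd fun h => ?_
      by_cases h3 : t ∣ 8
      · exact ht2 (eq_two_of_dvd_eight ht h3)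
      · exact h8 (od_eq_of_dvd ht h3 h)
    rw [h1, h2, zero_add, zero_add]
    exact hout_F4 hq hf ht ht2 htp htS
  · by_contra hcon
    push Not at hcon
    have h1 : p ^ 8 ∣ 1152 := (hp.pow_dvd_iff_le_factorization (by norm_num)).2 hcon
    have h2 := Nat.le_of_dvd (by norm_num) h1
    have h3 : p < 3 := by
      by_contra h4
      push Not at h4
      have h5 : 3 ^ 8 ≤ p ^ 8 := Nat.pow_le_pow_left h4 8
      omega
    have h4 := hp.two_le
    have h5 : p = 2 := by omega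
    rw [h5] at h1
    norm_num at h1
  · omega

end F4

/-- **The row of `F₄(q)`.** -/
theorem row_f4 (K : Type u) [Group K] [Finite K] [IsSimpleGroup K] (h : Cfsg.Lie.IsoF4 K) : Row K := by
  obtain ⟨F, _, _, ⟨e⟩⟩ := h
  obtain ⟨p, hpc⟩ := CharP.exists F
  obtain ⟨f, hp, hf⟩ := FiniteField.card F p
  have hpF := Fact.mk hp
  exact (row_chevF4 (F := F) (p := p) (f := f) hf f.pos).congr e

end Cfsg.Agent.H5.PD
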