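import Cfsg.Agent.H160.PD.Tools
import Cfsg.Agent.H568.RowTools

/-!
# S4246: the criterion `Two` for groups with two isolated tori (helper5)
-/

set_option autoImplicit false
set_option linter.unusedSectionVars false

namespace Cfsg.Agent.H5.PD

open Subgroup Cfsg.Agent.H160.PD

universe u

variable {S : Type u} [Group S]

theorem Fx_conj (s : S) : Fx (MulAut.conj s) = centralizer {s} := by
  ext x
  rw [mem_Fx, mem_centralizer_singleton_iff, MulAut.conj_apply, mul_inv_eq_iff_eq_mul]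
  exact eq_comm

variable [Finite S]

theorem orderOf_conj (hZ : center S = ⊥) (s : S) : orderOf (MulAut.conj s) = orderOf s :=
  orderOf_injective (MulAut.conj : S →* MulAut S) (conj_injective hZ) s

theorem v_zero_of_dvd {X : Type*} [Finite X] [Nonempty X] {p N : ℕ} (h : Nat.card X ∣ N) (hN : ¬ p ∣ N) : v p X = 0 :=
  Nat.factorization_eq_zero_of_not_dvd fun h1 => hN (h1.trans h)

theorem v_le_of_dvd {X : Type*} [Finite X] {t N : ℕ} (h : Nat.card X ∣ N) (hN : N ≠ 0) [Nonempty X] :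
    v t X ≤ N.factorization t :=
  (Nat.factorization_le_iff_dvd Nat.card_pos.ne' hN).2 h t

/-- cyclic Sylow subgroups -/
theorem uniq_of_sylow {r : ℕ} [hr : Fact r.Prime] (h : ∃ P : Sylow r S, IsCyclic ↥(P : Subgroup S)) : Uniq S r := by
  obtain ⟨P, hP⟩ := h
  intro x y hx hy hxy
  have hA : IsPGroup r ↥(zpowers x ⊔ zpowers y) :=
    (isPGroup_zpowers hx).to_sup_of_normal_right' (isPGroup_zpowers hy) (zpowers_le_normalizer_of_comm hxy)
  obtain ⟨Q, hQ⟩ := hA.exists_le_sylow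
  have hQc : IsCyclic ↥(Q : Subgroup S) :=
    isCyclic_of_surjective (Sylow.equiv P Q).toMonoidHom (Sylow.equiv P Q).surjective
  have hxQ : x ∈ (Q : Subgroup S) := hQ (mem_sup_left (mem_zpowers x))
  have hyQ : y ∈ (Q : Subgroup S) := hQ (mem_sup_right (mem_zpowers y))
  have h1 : orderOf (⟨x, hxQ⟩ : (Q : Subgroup S)) = orderOf (⟨y, hyQ⟩ : (Q : Subgroup S)) := by
    rw [Subgroup.orderOf_mk, Subgroup.orderOf_mk, hx, hy]
  obtain ⟨k, hk⟩ := mem_zpowers_of_cyclic h1
  exact ⟨k, congrArg Subtype.val hk⟩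

/-- the normaliser of `⟨x⟩` -/
theorem pow_mem_of {x : S} {w : ℕ} (h : ∀ (y : S) (j : ℕ), y * x * y⁻¹ = x ^ j → Commute (y ^ w) x) :
    ∀ y ∈ normalizer ((zpowers x : Subgroup S) : Set S), y ^ w ∈ centralizer ({x} : Set S) := by
  intro y hy
  have h1 : y * x * y⁻¹ ∈ zpowers x := (mem_normalizer_iff.1 hy x).1 (mem_zpowers x)
  rw [← mem_powers_iff_mem_zpowers] at h1
  obtain ⟨j, hj⟩ := h1
  rw [mem_centralizer_singleton_iff]
  exact h y j hj.symm

variable {p r₀ r₁ N₀ N₁ w m : ℕ}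

/-- one of the two tori -/
structure Tor (S : Type*) [Group S] (p r N w : ℕ) : Prop where
  prime : r.Prime
  odd : r ≠ 2
  ne : r ≠ p
  dvd : r ∣ Nat.card S
  cent : ∀ x : S, orderOf x = r → Nat.card (centralizer ({x} : Set S)) ∣ N
  notDvd : ¬ p ∣ N
  uniq : Uniq S r
  norm : ∀ x : S, orderOf x = r → ∀ y ∈ normalizer ((zpowers x : Subgroup S) : Set S),
    y ^ w ∈ centralizer ({x} : Set S)
  noNorm : ∀ x : S, orderOf x = r → H568.NoNorm p x
  inner : ∀ b : MulAut S, (orderOf b).Prime → orderOf b ≠ 2 → ∀ x : S, orderOf x = r → b x = x →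
    ∃ s, b = MulAut.conj s
  syl : ∀ s : S, (orderOf s).Prime → orderOf s ≠ 2 → orderOf s ≠ p → ∀ x : S, orderOf x = r → Commute s x →
    v p (centralizer ({s} : Set S)) + (out S).factorization p < v p S

theorem Tor.card_norm (h : Tor S p r₀ N₀ w) {x : S} (hx : orderOf x = r₀) :
    Nat.card ↥(normalizer ((zpowers x : Subgroup S) : Set S)) ∣ N₀ * w :=
  (card_normalizer_dvd h.prime hx (h.norm x hx)).trans (Nat.mul_dvd_mul_right (h.cent x hx) w)

theorem Tor.odd_le (h : Tor S p r₀ N₀ w) (hp : p.Prime) (hw : w ≠ 0) (hwm : w.factorization p ≤ m)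
    (H : Subgroup S) (hH : Odd (Nat.card H)) (hrH : r₀ ∣ Nat.card H) : v p H ≤ m := by
  have h1 := odd_bound_of_uniq (a := 0) (b := m) hp h.prime h.ne.symm h.uniq (fun X hX x hx hxo => ?_)
    (fun x hx => ?_) H hH hrH
  · rwa [zero_add] at h1
  · rw [h.noNorm x hxo X hX hx]
    show (Nat.card (⊥ : Subgroup S)).factorization p ≤ 0
    rw [Subgroup.card_bot]; simp
  · have hN : N₀ ≠ 0 := by rintro rfl; exact h.notDvd (dvd_zero p)
    refine (v_le_of_dvd (h.card_norm hx) (mul_ne_zero hN hw)).trans ?_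
    rw [Nat.factorization_mul hN hw, Finsupp.add_apply, Nat.factorization_eq_zero_of_not_dvd h.notDvd, zero_add]
    exact hwm

theorem Tor.cent_zero (h : Tor S p r₀ N₀ w) {x : S} (hx : orderOf x = r₀) :
    v p (centralizer ({x} : Set S)) = 0 := v_zero_of_dvd (h.cent x hx) h.notDvd

theorem Tor.syl_fx (hZ : center S = ⊥) (h : Tor S p r₀ N₀ w) (b : MulAut S) (hb : (orderOf b).Prime)
    (hb2 : orderOf b ≠ 2) (hbp : orderOf b ≠ p) (x : S) (hx : orderOf x = r₀) (hbx : b x = x) :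
    v p (Fx b) + max 0 0 + (out S).factorization p < v p S := by
  obtain ⟨s, rfl⟩ := h.inner b hb hb2 x hx hbx
  rw [orderOf_conj hZ] at hb hb2 hbp
  rw [Fx_conj, max_self, add_zero]
  refine h.syl s hb hb2 hbp x hx ?_
  rw [MulAut.conj_apply, mul_inv_eq_iff_eq_mul] at hbx
  exact hbx

/-- **The criterion.** -/
theorem two_gen (hZ : center S = ⊥) (hp : p.Prime) (h0 : Tor S p r₀ N₀ w) (h1 : Tor S p r₁ N₁ w)
    (hcop : N₀.Coprime N₁) (hw : w ≠ 0) (hr0 : ¬ r₁ ∣ N₀ * w) (hr1 : ¬ r₀ ∣ N₁ * w)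
    (hout : ∀ t, t.Prime → t ≠ 2 → t ≠ p → t ∣ Nat.card S → (out S).factorization t < v t S)
    (hnum : ∀ t, t.Prime → t ≠ 2 → t ≠ p → t ∣ Nat.card S → (∀ y : S, orderOf y = t →
      v p (centralizer ({y} : Set S)) = 0) ∨
      N₀.factorization t + N₁.factorization t + (out S).factorization t < v t S)
    (hwm : w.factorization p ≤ m) (hm : 2 * m + (out S).factorization p < v p S) :
    Two S p r₀ r₁ 0 0 0 m m := by
  have hN0 : N₀ ≠ 0 := by rintro rfl; exact h0.notDvd (dvd_zero p)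
  have hN1 : N₁ ≠ 0 := by rintro rfl; exact h1.notDvd (dvd_zero p)
  have hr01 : r₀ ≠ r₁ := by
    rintro rfl
    have h2 : r₀ ∣ N₁ := by
      have := Fact.mk h1.prime
      obtain ⟨x, hx⟩ := exists_prime_orderOf_dvd_card' r₀ h1.dvd
      refine dvd_trans ?_ (h1.cent x hx)
      rw [← hx]
      have hmem : x ∈ centralizer ({x} : Set S) := mem_centralizer_singleton_iff.2 rfl
      exact (Subgroup.orderOf_mk x hmem) ▸ orderOf_dvd_natCard (⟨x, hmem⟩ : centralizer ({x} : Set S))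
    exact hr1 (h2.mul_right w)
  refine
    { prime := hp
      good₀ := ⟨h0.prime, h0.odd, hout _ h0.prime h0.odd h0.ne h0.dvd⟩
      good₁ := ⟨h1.prime, h1.odd, hout _ h1.prime h1.odd h1.ne h1.dvd⟩
      cent₀ := fun x hx => (h0.cent_zero hx).le
      cent₁ := fun x hx => (h1.cent_zero hx).le
      noOdd := ?_
      inc := ?_
      syl₀ := h0.syl_fx hZ
      syl₁ := h1.syl_fx hZ
      cc := by omega
      num := ?_
      odd₀ := fun _ => h0.odd_le hp hw hwm
      odd₁ := fun _ => h1.odd_le hp hw hwm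
      n₀ := fun _ => by omega
      n₁ := fun _ => by omega
      n₀₁ := fun _ => by omega }
  · exact noOdd_of_uniq h0.prime h1.prime hr01 h0.uniq h1.uniq
      (fun x hx hd => hr0 (hd.trans (h0.card_norm hx))) (fun x hx hd => hr1 (hd.trans (h1.card_norm hx)))
  · intro b hb hb2 x hx hbx y hy hby
    obtain ⟨s, rfl⟩ := h0.inner b hb hb2 x hx hbx
    rw [orderOf_conj hZ] at hb
    rw [MulAut.conj_apply, mul_inv_eq_iff_eq_mul] at hbx hby
    have e0 : orderOf s ∣ N₀ := by
      have hmem : s ∈ centralizer ({x} : Set S) := mem_centralizer_singleton_iff.2 hbx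
      exact ((Subgroup.orderOf_mk s hmem) ▸ orderOf_dvd_natCard (⟨s, hmem⟩ : centralizer ({x} : Set S))).trans
        (h0.cent x hx)
    have e1 : orderOf s ∣ N₁ := by
      have hmem : s ∈ centralizer ({y} : Set S) := mem_centralizer_singleton_iff.2 hby
      exact ((Subgroup.orderOf_mk s hmem) ▸ orderOf_dvd_natCard (⟨s, hmem⟩ : centralizer ({y} : Set S))).trans
        (h1.cent y hy)
    exact hb.one_lt.ne' (Nat.eq_one_of_dvd_coprimes hcop e0 e1)
  · intro t ht ht2 htp htS _ _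
    rcases hnum t ht ht2 htp htS with h | h
    · exact Or.inl ⟨hout t ht ht2 htp htS, fun y hy => (h y hy).le⟩
    · right
      intro x y hx hy
      have e0 := v_le_of_dvd (t := t) (h0.cent x hx) hN0
      have e1 := v_le_of_dvd (t := t) (h1.cent y hy) hN1
      omega

end Cfsg.Agent.H5.PD
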