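import Cfsg.Agent.H378.RegFin

/-!
# Normalisers of semisimple elements of prime order in `D.group F` (helper5)

* `pow_comm` : if `y` normalises `⟨x⟩`, `x` of prime order `ℓ ∤ |F|`, then `y ^ |W|` centralises `x`.
-/

set_option autoImplicit false
set_option linter.unusedSectionVars false

namespace Cfsg.Agent.H5.PD

open CoxeterSystem Subgroup Cfsg Cfsg.Lie Cfsg.Lie.ChevalleyDatum
open Cfsg.Agent.ChevalleyStructure Cfsg.Agent.ChevalleyStructure.Elts Cfsg.Agent.ChevalleyStructure.CoxeterGeom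
  Cfsg.Agent.ChevalleyStructure.CoxeterGeomTypes Cfsg.Agent.ChevalleyStructure.NPerm
open Cfsg.Agent.Tits.Roots Cfsg.Agent.Tits.Core Cfsg.Agent.Nodes.Reps Cfsg.Agent.Nodes.BNOf
  Cfsg.Agent.Nodes.RGDChev Cfsg.Agent.Nodes.Bruhat
open Cfsg.Agent.KFacts.RgdField Cfsg.Agent.KFacts.RgdChevCoord Cfsg.Agent.BpExc.TorCent Cfsg.Agent.BpExc.TorChev
open Cfsg.Agent.BpExc.Tow Cfsg.Agent.BpExc.TowChev Cfsg.Agent.BpExc.FamExt Cfsg.Agent.BpExc.FamUntw
  Cfsg.Agent.BpExc.FamInst Cfsg.Agent.BpExc.LangFr Cfsg.Agent.BpExc.FamField Cfsg.Agent.BpExc.RowsUntw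
open Cfsg.Agent.GpExc.Field (glMap emb coe_emb glMap_xG emb_injective coe_glMap)
open Cfsg.Agent.H378.TorDual Cfsg.Agent.H378.TorChar Cfsg.Agent.H378.TorFin Cfsg.Agent.H378.LatRoot
  Cfsg.Agent.H378.Regular Cfsg.Agent.H378.ExcAdj Cfsg.Agent.H378.ExcNear

universe u v

theorem rp_pow {Y W : Type*} [Group Y] [Group W] {l : ℕ} {M : CoxeterMatrix (Fin l)} {cs : CoxeterSystem M W}
    {T : Subgroup Y} {nn : Fin l → Y} {hN : NSys M T nn} {w : W} {g : Y} (h : Rp cs hN w g) (n : ℕ) :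
    Rp cs hN (w ^ n) (g ^ n) := by
  induction n with
  | zero => rw [pow_zero, pow_zero]; exact rp_one
  | succ n ih => rw [pow_succ, pow_succ]; exact ih.mul h

variable {D : ChevalleyDatum} {l : ℕ} {M : CoxeterMatrix (Fin l)} (hp : IsType D l M)
  {W : Type*} [Group W] (cs : CoxeterSystem M W)

theorem conj_pow_iter {Y : Type*} [Group Y] {g t : Y} {j : ℕ} (h : g * t * g⁻¹ = t ^ j) (n : ℕ) :
    g ^ n * t * (g ^ n)⁻¹ = t ^ (j ^ n) := by
  induction n with
  | zero => simp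
  | succ n ih =>
    have h1 : g ^ (n + 1) * t * (g ^ (n + 1))⁻¹ = g ^ n * (g * t * g⁻¹) * (g ^ n)⁻¹ := by
      rw [pow_succ]; group
    rw [h1, h]
    have h2 : g ^ n * t ^ j * (g ^ n)⁻¹ = (g ^ n * t * (g ^ n)⁻¹) ^ j := conj_pow.symm
    rw [h2, ih, ← pow_mul, pow_succ]

include hp cs in
/-- **The powers of the elements of the normaliser.** -/
theorem pow_comm [Finite W] {F : Type u} [Field F] [Finite F] {x y : ↥(D.group F)} {ℓ : ℕ} (hℓ : ℓ.Prime)
    (hℓF : ¬ ℓ ∣ Nat.card F) (hx : orderOf x = ℓ) {j : ℕ} (h : y * x * y⁻¹ = x ^ j) :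
    Commute (y ^ Nat.card W) x := by
  obtain ⟨k, _, _, f, r, _, _, n, hk, hka, hn0, hn⟩ := exists_closure F
  have hℓr : ℓ ≠ r := by
    rintro rfl
    apply hℓF
    rw [hn]
    exact dvd_pow_self _ hn0.ne'
  have hxℓ : x ^ ℓ = 1 := by rw [← hx]; exact pow_orderOf_eq_one x
  have hemb := emb_injective hp.inList f
  obtain ⟨z, hz⟩ := BpExc.TorAll.exists_toral hp r hka hℓ hℓr (y := emb hp.inList f x)
    (by rw [← map_pow, hxℓ, map_one])
  set t := z⁻¹ * emb hp.inList f x * z with ht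
  set c := z⁻¹ * emb hp.inList f y * z with hc
  have h1 : c * t * c⁻¹ = t ^ j := by
    have h2 : c * t * c⁻¹ = z⁻¹ * emb hp.inList f (y * x * y⁻¹) * z := by
      rw [map_mul, map_mul, map_inv, hc, ht]; group
    have h3 : t ^ j = z⁻¹ * (emb hp.inList f x) ^ j * z := by
      have h4 := conj_pow (a := z⁻¹) (b := emb hp.inList f x) (i := j)
      rwa [inv_inv] at h4
    rw [h2, h3, h, map_pow]
  have e1 : c * t = t ^ j * c := by rw [← h1]; group
  obtain ⟨m, hm, w, g, hg, hgs, -⟩ := exists_form' hp cs hk r hz (pow_mem hz j) e1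
  have h2 : g * t * g⁻¹ = t ^ j := by rw [hgs]; group
  have h3 := conj_pow_iter h2 (Nat.card W)
  have h4 := rp_pow hg (Nat.card W)
  rw [pow_card_eq_one'] at h4
  have h5 := TT_comm hp _ h4.mem_of_one t hz
  rw [h5, mul_inv_cancel_right] at h3
  have h6 := conj_pow_iter h (Nat.card W)
  have h7 : x ^ j ^ Nat.card W = x := by
    apply hemb
    have h8 : emb hp.inList f x = z * t * z⁻¹ := by rw [ht]; group
    rw [map_pow, h8]
    have h9 : (z * t * z⁻¹) ^ j ^ Nat.card W = z * t ^ j ^ Nat.card W * z⁻¹ := conj_pow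
    rw [h9, ← h3]
  rw [h7] at h6
  exact mul_inv_eq_iff_eq_mul.1 h6

end Cfsg.Agent.H5.PD
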