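import Cfsg.Agent.H5.PD.St
import Cfsg.Agent.H719.BigG2
import Cfsg.Agent.S2121
import Cfsg.Agent.H568.OwnCharChev

/-!
# S4246: the row of `G₂(q)` (helper5)

`Two` with the primes of order 3 and 6.
-/

set_option autoImplicit false
set_option linter.unusedSectionVars false

namespace Cfsg.Agent.H5.PD

open CoxeterSystem Subgroup Cfsg Cfsg.Lie Cfsg.Lie.ChevalleyDatum
open Cfsg.Agent.ChevalleyStructure Cfsg.Agent.ChevalleyStructure.Elts Cfsg.Agent.ChevalleyStructure.CoxeterGeom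
  Cfsg.Agent.ChevalleyStructure.CoxeterGeomTypes Cfsg.Agent.Nodes.RGDChev
open Cfsg.Agent.H378.ExcAdj Cfsg.Agent.H568.FldExc Cfsg.Agent.H70.OutCount
open Cfsg.Agent.H160.PD

universe u

/-! ### numbers -/

theorem cyc3 (q : ℕ) : (cyc 3 q : ℤ) = 1 + (q : ℤ) + (q : ℤ) ^ 2 := by
  rw [cyc, Int.natCast_natAbs, Polynomial.cyclotomic_three]
  simp only [Polynomial.eval_add, Polynomial.eval_pow, Polynomial.eval_X, Polynomial.eval_one]
  rw [abs_of_nonneg (by positivity)]
  ring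

theorem cyc6 (q : ℕ) : (cyc 6 q : ℤ) = 1 - (q : ℤ) + (q : ℤ) ^ 2 := by
  rw [cyc, Int.natCast_natAbs, Polynomial.cyclotomic_six]
  simp only [Polynomial.eval_add, Polynomial.eval_sub, Polynomial.eval_pow, Polynomial.eval_X, Polynomial.eval_one]
  rw [abs_of_nonneg (by nlinarith [sq_nonneg ((q : ℤ) - 1), Int.natCast_nonneg q])]
  ring

theorem fac_two_mul {t f : ℕ} (ht2 : t ≠ 2) (hf : f ≠ 0) :
    (2 * f).factorization t = f.factorization t := by
  rw [Nat.factorization_mul two_ne_zero hf, Finsupp.add_apply, Nat.Prime.factorization Nat.prime_two,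
    Finsupp.single_apply, if_neg ht2.symm, zero_add]

theorem fac_mul_pow {p f n A : ℕ} (hp : p.Prime) (hA : ¬ p ∣ A) : ((p ^ f) ^ n * A).factorization p = f * n := by
  have hA0 : A ≠ 0 := by rintro rfl; exact hA (dvd_zero p)
  rw [← pow_mul, Nat.factorization_mul (pow_ne_zero _ hp.ne_zero) hA0, Finsupp.add_apply,
    hp.factorization_pow, Finsupp.single_eq_same, Nat.factorization_eq_zero_of_not_dvd hA, add_zero]

/-- a primitive prime divisor -/
theorem exists_prim' {r e h : ℕ} (hr : r.Prime) (he : 0 < e) (hh : 3 ≤ h) (h6 : ¬ (r = 2 ∧ e * h = 6)) :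
    ∃ l : ℕ, l.Prime ∧ (∀ m, l ∣ r ^ m - 1 ↔ e * h ∣ m) ∧ orderOf ((r ^ e : ℕ) : ZMod l) = h := by
  have hn : 3 ≤ e * h := hh.trans (Nat.le_mul_of_pos_left h he)
  obtain ⟨l, hl, h1, h2, h3⟩ := Cfsg.Agent.Lib.Zsigmondy.exists_primitive (a := r) (n := e * h) hr.two_le (by omega)
    (by omega) h6
  refine ⟨l, hl, h1, ?_⟩
  have hr1 : 1 ≤ r ^ e := Nat.one_le_pow _ _ hr.pos
  have key : ∀ m, orderOf ((r ^ e : ℕ) : ZMod l) ∣ m ↔ h ∣ m := by
    intro m
    rw [← Cfsg.Agent.Lib.Zsigmondy.dvd_pow_sub_one_iff hr1, ← pow_mul, h1]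
    exact Nat.mul_dvd_mul_iff_left he
  exact Nat.dvd_antisymm ((key h).2 dvd_rfl) ((key _).1 dvd_rfl)

theorem prime_dvd_six {t : ℕ} (ht : t.Prime) (ht2 : t ≠ 2) (h : t ∣ 6) : t = 3 := by
  rcases ht.dvd_mul.1 (show t ∣ 2 * 3 from h) with h1 | h1
  · exact absurd ((Nat.prime_dvd_prime_iff_eq ht Nat.prime_two).1 h1) ht2
  · exact (Nat.prime_dvd_prime_iff_eq ht Nat.prime_three).1 h1

section G2

variable {F : Type u} [Field F] [Fintype F] {p f : ℕ} [hpF : Fact p.Prime] [CharP F p]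

theorem card_G2 (hq : Fintype.card F = p ^ f) :
    Nat.card ↥(chevG2.group F) = (p ^ f) ^ 6 * (((p ^ f) ^ 2 - 1) * ((p ^ f) ^ 6 - 1)) := by
  rw [Cfsg.Agent.S1059.result hq, mul_assoc]

theorem v_G2 (hq : Fintype.card F = p ^ f) (hf : 0 < f) : v p ↥(chevG2.group F) = f * 6 := by
  have hp : p.Prime := Fact.out
  show (Nat.card ↥(chevG2.group F)).factorization p = f * 6
  rw [card_G2 hq, fac_mul_pow hp]
  have hq1 : 1 ≤ p ^ f := Nat.one_le_pow _ _ hp.pos
  have hpq : p ∣ p ^ f := dvd_pow_self p hf.ne'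
  rw [hp.dvd_mul]
  rintro (h | h)
  · exact not_dvd_sub_one hp hq1 hpq (by norm_num) h
  · exact not_dvd_sub_one hp hq1 hpq (by norm_num) h

theorem out_G2 (hq : Fintype.card F = p ^ f) (hq3 : 3 ≤ p ^ f) :
    out ↥(chevG2.group F) = if p = 3 then 2 * f else f :=
  Cfsg.Agent.S2121.result p f hq hq3

theorem fac_out_G2 (hq : Fintype.card F = p ^ f) (hq3 : 3 ≤ p ^ f) (hf : 0 < f) {t : ℕ}
    (h : t ≠ 2 ∨ p ≠ 3) : (out ↥(chevG2.group F)).factorization t = f.factorization t := by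
  rw [out_G2 hq hq3]
  split_ifs with h1
  · exact fac_two_mul (by rcases h with h | h; exact h; exact absurd h1 h) hf.ne'
  · rfl

theorem out_lt_G2 (hq : Fintype.card F = p ^ f) (hq3 : 3 ≤ p ^ f) (hf : 0 < f) :
    (out ↥(chevG2.group F)).factorization p < f := by
  rw [fac_out_G2 hq hq3 hf (by by_cases h : p = 3; left; omega; right; exact h)]
  exact Nat.factorization_lt _ hf.ne'

theorem hout_G2 (hq : Fintype.card F = p ^ f) (hq3 : 3 ≤ p ^ f) (hf : 0 < f) {t : ℕ} (ht : t.Prime) (ht2 : t ≠ 2)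
    (htp : t ≠ p) (htS : t ∣ Nat.card ↥(chevG2.group F)) :
    (out ↥(chevG2.group F)).factorization t < v t ↥(chevG2.group F) := by
  have hp : p.Prime := Fact.out
  have hfin : Finite ↥(chevG2.group F) := by
    have : Finite (Matrix.GeneralLinearGroup chevG2.Idx F) := inferInstance
    infer_instance
  rw [fac_out_G2 hq hq3 hf (Or.inl ht2)]
  have h0 : ∀ i, t ∣ (p ^ f) ^ i - 1 → (p ^ f) ^ i - 1 ∣ Nat.card ↥(chevG2.group F) →
      f.factorization t < v t ↥(chevG2.group F) := fun i h1 h2 =>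
    Nat.lt_of_succ_le ((ht.pow_dvd_iff_le_factorization Nat.card_pos.ne').1 ((lte hp.pos ht h1).trans h2))
  rw [card_G2 hq, ht.dvd_mul, ht.dvd_mul] at htS
  rcases htS with h | h | h
  · exact absurd ((Nat.prime_dvd_prime_iff_eq ht hp).1 (ht.dvd_of_dvd_pow (ht.dvd_of_dvd_pow h))) htp
  · exact h0 2 h (by rw [card_G2 hq]; exact Dvd.dvd.mul_left (dvd_mul_right _ _) _)
  · exact h0 6 h (by rw [card_G2 hq]; exact Dvd.dvd.mul_left (dvd_mul_left _ _) _)

theorem ne_comm_G2 (hq3 : 3 ≤ Fintype.card F) : ∃ a b : ↥(chevG2.group F), a * b ≠ b * a := by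
  by_contra hcon
  push Not at hcon
  exact (Cfsg.Agent.S1055.result (H719.ne_one hq3)).2 ⟨⟨hcon⟩⟩

theorem tor_G2 (hq : Fintype.card F = p ^ f) (hq3 : 3 ≤ p ^ f) (hf : 0 < f) {r m h₀ : ℕ} (hr : r.Prime)
    (hod : od (Nat.card F) r = m) (hm : m = 3 ∨ m = 6) (hh0 : ∀ k, r ∣ p ^ k - 1 → h₀ ∣ k)
    (hh : 2 * f.factorization p < h₀)
    (hprim : (∃ h, (∀ k, r ∣ p ^ k - 1 → f * h ∣ k) ∧ ∀ d ∈ [2, 6], 0 < d ∧ d < 3 * h) ∨
      (∀ t, t.Prime → t ≠ 2 → ¬ t ∣ f)) :
    Tor ↥(chevG2.group F) p r (cyc m (Nat.card F)) 12 := by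
  have hp : p.Prime := Fact.out
  have hrF := Fact.mk hr
  have hfin : Finite ↥(chevG2.group F) := by
    have : Finite (Matrix.GeneralLinearGroup chevG2.Idx F) := inferInstance
    infer_instance
  have hsimp : IsSimpleGroup ↥(chevG2.group F) := (Cfsg.Agent.S1055.result (H719.ne_one (by omega))).1
  have hW : Nat.card CoxeterMatrix.G₂.Group = 12 := Cfsg.Agent.S1092.result (⟨2, CoxeterMatrix.G₂⟩, 12) (by simp)
  have hty : IsType chevG2 2 CoxeterMatrix.G₂ := by simp [IsType, typeList]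
  have hqN : Nat.card F = p ^ f := by rw [Nat.card_eq_fintype_card, hq]
  have hq1 : 1 ≤ Nat.card F := Nat.card_pos
  have hmr : m < r := lt_of_od hr hod (by omega)
  have hrd6 : r ∣ Nat.card F ^ 6 - 1 := dvd_of_od_dvd hq1 (by rcases hm with rfl | rfl <;> (rw [hod]; try norm_num))
  have hcard : Nat.card F ^ 6 - 1 ∣ Nat.card ↥(chevG2.group F) := by
    rw [card_G2 hq, hqN]; exact Dvd.dvd.mul_left (dvd_mul_left _ _) _
  have hv := v_G2 hq hf
  have ho := out_lt_G2 hq hq3 hf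
  rw [← hW]
  refine tor_chev hty BpExc.FamInst.inv_G2 H129.TorusChar.invC_G2 hq hf (H719.AutInv.inv_G2 _) ordF_G2 hr hod ?_ ?_ ?_
    (hrd6.trans hcard) ?_ ?_ hprim ?_ ?_
  · rcases hm with rfl | rfl <;> decide
  · omega
  · omega
  · rcases hm with rfl | rfl
    · refine (H719.hasT_G2_3 (F := F) (q := Nat.card F) (Nat.card_eq_fintype_card).symm (cyc3 _)
        (cyc3 _)).cyclic_sylow (H719.dvd_red (by norm_num) hr (by omega) ?_)
      exact Int.natCast_dvd.1 (H378.RegFin.cyclotomic_dvd hr hod (by norm_num))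
    · refine (H719.hasT_G2_6 (F := F) (q := Nat.card F) (Nat.card_eq_fintype_card).symm (cyc6 _)
        (cyc6 _)).cyclic_sylow (H719.dvd_red (by norm_num) hr (by omega) ?_)
      exact Int.natCast_dvd.1 (H378.RegFin.cyclotomic_dvd hr hod (by norm_num))
  · intro x hx hcen
    refine H568.noNorm_G2 p hr hx hcen hm fun k hk => ?_
    rw [← hod]
    exact od_dvd hq1 hk
  · omega
  · intro s hs hs2 hsp hsm _ x hx hsx
    have hs3 : orderOf s = 3 := by
      refine prime_dvd_six hs hs2 ?_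
      rcases hm with rfl | rfl
      · exact hsm.trans (by norm_num)
      · exact hsm
    have hp3 : p ≠ 3 := by rw [← hs3]; exact hsp.symm
    rw [fac_out_G2 hq hq3 hf (Or.inr hp3), hv]
    have hpS : p ∣ Nat.card ↥(chevG2.group F) := by
      rw [← v_pos hp, hv]; omega
    have h1 := cent_lt (KFacts.RgdFiltChev.hasFilt_G2 F p) (ne_comm_G2 (by omega)) hs hsp hpS
    rw [hv] at h1
    have hrp : r ≠ p := by
      rintro rfl
      exact H378.RegFin.not_dvd_q hr hod (by omega) (by rw [hqN]; exact dvd_pow_self _ hf.ne')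
    have hcx : ¬ p ∣ Nat.card (centralizer ({x} : Set ↥(chevG2.group F))) := by
      intro hd
      have h2 := (H378.RegFin.cent_od hty BpExc.FamInst.inv_G2 one_ne_zero hr hx hod
        (by rcases hm with rfl | rfl <;> decide) (by omega)).2
      exact not_dvd_cyc hp hq1 (by rw [hqN]; exact dvd_pow_self _ hf.ne') (by omega) (hd.trans h2)
    have h2 := st_sq (by simp) hsx hr hx hrp hs (by omega) hsp hcx
    have h3 := hh0 _ h2
    have h4 : h₀ ∣ 2 * (f * 6) := by
      refine (hh0 (f * 6) ?_).trans (dvd_mul_left _ _)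
      rw [pow_mul, ← hqN]
      exact hrd6
    have h5 : h₀ ∣ 2 * (f * 6) - 2 * v p (centralizer ({s} : Set ↥(chevG2.group F))) := Nat.dvd_sub h4 h3
    have h6 := Nat.le_of_dvd (by omega) h5
    omega

/-- the prime for the torus of order `q ^ 2 + q + 1` -/
theorem exists_r₀ (hp : p.Prime) (hf : 0 < f) : ∃ r h₀, r.Prime ∧ od (p ^ f) r = 3 ∧
    (∀ k, r ∣ p ^ k - 1 → h₀ ∣ k) ∧ 2 * f.factorization p < h₀ ∧
    ((∃ h, (∀ k, r ∣ p ^ k - 1 → f * h ∣ k) ∧ ∀ d ∈ [2, 6], 0 < d ∧ d < 3 * h) ∨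
      (∀ t, t.Prime → t ≠ 2 → ¬ t ∣ f)) := by
  by_cases h6 : p = 2 ∧ f * 3 = 6
  · obtain ⟨rfl, h6⟩ := h6
    have hf2 : f = 2 := by omega
    subst hf2
    have h7 : orderOf ((4 : ℕ) : ZMod 7) = 3 := by
      have := Fact.mk Nat.prime_three
      exact orderOf_eq_prime (by decide) (by decide)
    have h72 : orderOf ((2 : ℕ) : ZMod 7) = 3 := by
      have := Fact.mk Nat.prime_three
      exact orderOf_eq_prime (by decide) (by decide)
    refine ⟨7, 3, by norm_num, h7, fun k hk => ?_, ?_, Or.inr fun t ht ht2 h => ?_⟩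
    · rw [Cfsg.Agent.Lib.Zsigmondy.dvd_pow_sub_one_iff (by norm_num), h72] at hk
      exact hk
    · have := Nat.factorization_lt 2 (n := 2) (by norm_num)
      omega
    · exact ht2 ((Nat.prime_dvd_prime_iff_eq ht Nat.prime_two).1 h)
  · obtain ⟨r, hr, h1, h2⟩ := exists_prim' hp hf (le_refl 3) h6
    refine ⟨r, f * 3, hr, h2, fun k hk => (h1 k).1 hk, ?_, Or.inl ⟨3, fun k hk => (h1 k).1 hk, by decide⟩⟩
    have := Nat.factorization_lt p hf.ne'
    omega

/-- the prime for the torus of order `q ^ 2 - q + 1` -/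
theorem exists_r₁ (hp : p.Prime) (hf : 0 < f) (hq3 : 3 ≤ p ^ f) : ∃ r h₀, r.Prime ∧ od (p ^ f) r = 6 ∧
    (∀ k, r ∣ p ^ k - 1 → h₀ ∣ k) ∧ 2 * f.factorization p < h₀ ∧
    ((∃ h, (∀ k, r ∣ p ^ k - 1 → f * h ∣ k) ∧ ∀ d ∈ [2, 6], 0 < d ∧ d < 3 * h) ∨
      (∀ t, t.Prime → t ≠ 2 → ¬ t ∣ f)) := by
  obtain ⟨r, hr, h1, h2⟩ := exists_prim' (h := 6) hp hf (by norm_num) (by
    rintro ⟨rfl, h⟩
    have h1 : f = 1 := by omega
    rw [h1] at hq3
    norm_num at hq3)
  refine ⟨r, f * 6, hr, h2, fun k hk => (h1 k).1 hk, ?_, Or.inl ⟨6, fun k hk => (h1 k).1 hk, by decide⟩⟩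
  have := Nat.factorization_lt p hf.ne'
  omega

theorem not_dvd_twelve {r : ℕ} (hr : 3 < r) (h : r.Prime) : ¬ r ∣ 12 := by
  intro h1
  have h2 := prime_dvd_six h (by omega) (by
    rcases h.dvd_mul.1 (show r ∣ 2 * 6 from h1) with h2 | h2
    · exact absurd (Nat.le_of_dvd (by norm_num) h2) (by omega)
    · exact h2)
  omega

theorem two_odd_cyc3 (q : ℕ) : ¬ 2 ∣ cyc 3 q := by
  refine H719.not_dvd_of_zmod (cyc3 q) ?_
  push_cast
  generalize (q : ZMod 2) = x
  revert x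
  decide +kernel

theorem coprime_cyc36 (q : ℕ) : (cyc 3 q).Coprime (cyc 6 q) := by
  refine Nat.coprime_of_dvd fun k hk h1 h2 => ?_
  by_cases h : k = 2
  · subst h
    exact two_odd_cyc3 q h1
  · exact H719.RowG2.co (cyc3 q) (cyc6 q) hk h h1 h2

theorem fac_three (q : ℕ) : (cyc 3 q).factorization 3 + (cyc 6 q).factorization 3 ≤ 1 := by
  have h0 : cyc 3 q ≠ 0 := fun h => two_odd_cyc3 q (h ▸ dvd_zero 2)
  have h1 : cyc 6 q ≠ 0 := by
    intro h
    have h2 := cyc6 q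
    rw [h] at h2
    push_cast at h2
    nlinarith [sq_nonneg ((q : ℤ) - 1), sq_nonneg (q : ℤ)]
  rw [← Finsupp.add_apply, ← Nat.factorization_mul h0 h1]
  by_contra hcon
  push Not at hcon
  have h2 : 3 ^ 2 ∣ cyc 3 q * cyc 6 q :=
    (Nat.prime_three.pow_dvd_iff_le_factorization (mul_ne_zero h0 h1)).2 hcon
  have hz : ((cyc 3 q * cyc 6 q : ℕ) : ℤ) = (1 + (q : ℤ) + (q : ℤ) ^ 2) * (1 - (q : ℤ) + (q : ℤ) ^ 2) := by
    rw [← cyc3, ← cyc6]; push_cast; ring
  refine H719.not_dvd_of_zmod hz ?_ h2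
  push_cast
  generalize (q : ZMod (3 ^ 2)) = x
  revert x
  decide +kernel

/-- **`Two` for `G₂(q)`.** -/
theorem row_chevG2 (hq : Fintype.card F = p ^ f) (hq3 : 3 ≤ p ^ f) (hf : 0 < f) : Row ↥(chevG2.group F) := by
  have hp : p.Prime := Fact.out
  have hfin : Finite ↥(chevG2.group F) := by
    have : Finite (Matrix.GeneralLinearGroup chevG2.Idx F) := inferInstance
    infer_instance
  obtain ⟨hsimp, hna⟩ := Cfsg.Agent.S1055.result (F := F) (H719.ne_one (by omega))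
  have hZ := center_eq_bot hna
  have hqN : Nat.card F = p ^ f := by rw [Nat.card_eq_fintype_card, hq]
  have hq1 : 1 ≤ Nat.card F := Nat.card_pos
  have hpq : p ∣ Nat.card F := by rw [hqN]; exact dvd_pow_self p hf.ne'
  have hty : IsType chevG2 2 CoxeterMatrix.G₂ := by simp [IsType, typeList]
  obtain ⟨r₀, h₀, hr₀, ho₀, hh₀, hl₀, hp₀⟩ := exists_r₀ hp hf
  obtain ⟨r₁, h₁, hr₁, ho₁, hh₁, hl₁, hp₁⟩ := exists_r₁ hp hf hq3
  rw [← hqN] at ho₀ ho₁
  have T0 := tor_G2 hq hq3 hf hr₀ ho₀ (Or.inl rfl) hh₀ hl₀ hp₀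
  have T1 := tor_G2 hq hq3 hf hr₁ ho₁ (Or.inr rfl) hh₁ hl₁ hp₁
  have hv := v_G2 hq hf
  have ho := out_lt_G2 hq hq3 hf
  have hl0 := lt_of_od hr₀ ho₀ (by norm_num)
  have hl1 := lt_of_od hr₁ ho₁ (by norm_num)
  refine Two.row hZ (two_gen (m := 2) hZ hp T0 T1 (coprime_cyc36 _) (by norm_num) ?_ ?_
    (fun t ht ht2 htp htS => hout_G2 hq hq3 hf ht ht2 htp htS) ?_ ?_ ?_)
  · rw [hr₁.dvd_mul]
    rintro (h | h)
    · have h1 := H378.RegFin.od_of_dvd h
      rw [ho₁] at h1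
      omega
    · exact not_dvd_twelve (by omega) hr₁ h
  · rw [hr₀.dvd_mul]
    rintro (h | h)
    · have h1 := od_eq_of_dvd (m := 6) hr₀ (fun h6 => by
        have := prime_dvd_six hr₀ (by omega) h6
        omega) h
      rw [ho₀] at h1
      omega
    · exact not_dvd_twelve (by omega) hr₀ h
  · intro t ht ht2 htp htS
    have hN0 : ¬ p ∣ cyc 3 (Nat.card F) := not_dvd_cyc hp hq1 hpq (by norm_num)
    have hN1 : ¬ p ∣ cyc 6 (Nat.card F) := not_dvd_cyc hp hq1 hpq (by norm_num)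
    have key : od (Nat.card F) t = 1 ∨ od (Nat.card F) t = 2 →
        (cyc 3 (Nat.card F)).factorization t + (cyc 6 (Nat.card F)).factorization t +
          (out ↥(chevG2.group F)).factorization t < v t ↥(chevG2.group F) := by
      intro hod
      by_cases ht3 : t = 3
      · subst ht3
        have h1 := fac_three (Nat.card F)
        have h2 := fac_out_G2 hq hq3 hf (t := 3) (Or.inl ht2)
        have hd2 : od (Nat.card F) 3 ∣ 2 := by
          rcases hod with h | h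
          · rw [h]; exact one_dvd _
          · rw [h]
        have h3 := lte (i := 2) hp.pos ht (by rw [← hqN]; exact dvd_of_od_dvd hq1 hd2)
        have h4 := lte (i := 6) hp.pos ht (by
          rw [← hqN]; exact dvd_of_od_dvd hq1 (hd2.trans (by norm_num)))
        have h5 : 3 ^ (2 * (f.factorization 3 + 1)) ∣ Nat.card ↥(chevG2.group F) := by
          rw [card_G2 hq, two_mul, pow_add]
          exact Dvd.dvd.mul_left (Nat.mul_dvd_mul h3 h4) _
        have h6 := (ht.pow_dvd_iff_le_factorization Nat.card_pos.ne').1 h5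
        simp only [v]
        omega
      · have h1 : (cyc 3 (Nat.card F)).factorization t = 0 := by
          refine Nat.factorization_eq_zero_of_not_dvd fun h => ?_
          have h2 := od_eq_of_dvd ht (fun h3 => ht3 ((Nat.prime_dvd_prime_iff_eq ht Nat.prime_three).1 h3)) h
          omega
        have h2 : (cyc 6 (Nat.card F)).factorization t = 0 := by
          refine Nat.factorization_eq_zero_of_not_dvd fun h => ?_
          have h2 := od_eq_of_dvd ht (fun h3 => ht3 (prime_dvd_six ht ht2 h3)) h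
          omega
        rw [h1, h2, zero_add, zero_add]
        exact hout_G2 hq hq3 hf ht ht2 htp htS
    rcases od_G2 ht htS with h | h | h | h | h
    · rw [hqN] at h
      exact absurd ((Nat.prime_dvd_prime_iff_eq ht hp).1 (ht.dvd_of_dvd_pow h)) htp
    · exact Or.inr (key (Or.inl h))
    · exact Or.inr (key (Or.inr h))
    · left
      intro y hy
      exact v_zero_of_dvd (H378.RegFin.cent_od hty BpExc.FamInst.inv_G2 one_ne_zero ht hy h (by decide)
        (by norm_num)).2 hN0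
    · left
      intro y hy
      exact v_zero_of_dvd (H378.RegFin.cent_od hty BpExc.FamInst.inv_G2 one_ne_zero ht hy h (by decide)
        (by norm_num)).2 hN1
  · by_contra hcon
    push Not at hcon
    have h1 : p ^ 3 ∣ 12 := (hp.pow_dvd_iff_le_factorization (by norm_num)).2 hcon
    have h2 := Nat.le_of_dvd (by norm_num) h1
    have h3 : p < 3 := by
      by_contra h4
      push Not at h4
      have h5 : 3 ^ 3 ≤ p ^ 3 := Nat.pow_le_pow_left h4 3
      omega
    have h4 := hp.two_le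
    have h5 : p = 2 := by omega
    rw [h5] at h1
    norm_num at h1
  · omega

end G2

/-- **The row of `G₂(q)`.** -/
theorem row_g2 (K : Type u) [Group K] [Finite K] [IsSimpleGroup K] (h : Cfsg.Lie.IsoChevG2 K) : Row K := by
  obtain ⟨F, _, _, h3, ⟨e⟩⟩ := h
  obtain ⟨p, hpc⟩ := CharP.exists F
  obtain ⟨f, hp, hf⟩ := FiniteField.card F p
  have hpF := Fact.mk hp
  exact (row_chevG2 (F := F) (p := p) (f := f) hf (hf ▸ h3) f.pos).congr e

end Cfsg.Agent.H5.PD
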