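import Cfsg.Agent.H5.PD.Tor
import Cfsg.Agent.S2312
import Cfsg.Agent.KFacts.RgdLieCharP

/-!
# S4246: centralisers of semisimple elements commuting with an isolated element (helper5)

* `cent_lt` : a nontrivial `p'`-element does not centralise a Sylow `p`-subgroup;
* `fixed_congr` : `#Fix(s) ≡ #Fix(s x)` modulo `ℓ` for commuting `s`, `x`, `x` of prime order `ℓ`;
* `st_sq` : `ℓ` divides `p ^ (2 a) - 1`, `p ^ a` the `p`-part of `C(s)`, if `p ∤ |C(x)|` (Steinberg character).
-/

set_option autoImplicit false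
set_option linter.unusedSectionVars false

namespace Cfsg.Agent.H5.PD

open Subgroup Cfsg Cfsg.Agent.H160.PD

universe u

/-! ### Sylow subgroups are not centralised -/

theorem cent_lt {G : Type*} [Group G] [Finite G] [IsSimpleGroup G] {p : ℕ} [Fact p.Prime]
    (hG : KFacts.RgdFilt.HasFilt p G) (hc : ∃ a b : G, a * b ≠ b * a) {s : G} (hs : (orderOf s).Prime)
    (hsp : orderOf s ≠ p) (hpG : p ∣ Nat.card G) : v p (centralizer ({s} : Set G)) < v p G := by
  have hp : p.Prime := Fact.out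
  by_contra hcon
  obtain ⟨P⟩ : Nonempty (Sylow p ↥(centralizer ({s} : Set G))) := inferInstance
  set K : Subgroup G := (P : Subgroup ↥(centralizer ({s} : Set G))).map (centralizer ({s} : Set G)).subtype with hK
  have hKp : IsPGroup p K := P.isPGroup'.map _
  have hKc : Nat.card K = p ^ v p (centralizer ({s} : Set G)) := by
    rw [hK, card_map_subtype, P.card_eq_multiplicity]
  have hpos : 0 < v p G := (v_pos hp).2 hpG
  have hK1 : K ≠ ⊥ := by
    intro h0
    rw [h0, Subgroup.card_bot] at hKc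
    exact hp.one_lt.ne' ((Nat.pow_eq_one.1 hKc.symm).resolve_right (by omega))
  obtain ⟨V, -, hV, hKV, -, -, -, hVc⟩ := hG.exists_par hc hKp hK1
  obtain ⟨k, hk⟩ := IsPGroup.iff_card.1 hV
  have h1 : k ≤ v p G := (hp.pow_dvd_iff_le_factorization Nat.card_pos.ne').1 (hk ▸ card_subgroup_dvd_card V)
  have h2 : K = V := by
    apply Subgroup.eq_of_le_of_card_ge hKV
    rw [hk, hKc]
    exact Nat.pow_le_pow_right hp.pos (by omega)
  have h3 : s ∈ V := by
    apply hVc
    rw [mem_centralizer_iff]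
    intro y hy
    rw [← h2] at hy
    exact mem_centralizer_singleton_iff.1 (map_subtype_le _ hy)
  obtain ⟨j, hj⟩ := hV ⟨s, h3⟩
  have h4 : s ^ p ^ j = 1 := congrArg Subtype.val hj
  exact hsp ((Nat.prime_dvd_prime_iff_eq hs hp).1 (hs.dvd_of_dvd_pow (orderOf_dvd_of_pow_eq_one h4)))

/-! ### the Steinberg character -/

theorem exists_pow_of_coprime {G : Type*} [Group G] {s x : G} (hc : Commute s x)
    (hs : (orderOf s).Coprime (orderOf x)) : (∃ k, (s * x) ^ k = s) ∧ ∃ k, (s * x) ^ k = x := by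
  constructor
  · obtain ⟨k, hk1, hk2⟩ := Nat.chineseRemainder hs 1 0
    refine ⟨k, ?_⟩
    rw [hc.mul_pow, pow_eq_pow_iff_modEq.2 hk1, pow_eq_pow_iff_modEq.2 hk2, pow_one, pow_zero, mul_one]
  · obtain ⟨k, hk1, hk2⟩ := Nat.chineseRemainder hs 0 1
    refine ⟨k, ?_⟩
    rw [hc.mul_pow, pow_eq_pow_iff_modEq.2 hk1, pow_eq_pow_iff_modEq.2 hk2, pow_one, pow_zero, one_mul]

theorem pow_smul_eq {G α : Type*} [Group G] [MulAction G α] {g : G} {y : α} (h : g • y = y) (k : ℕ) :
    g ^ k • y = y := by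
  induction k with
  | zero => rw [pow_zero, one_smul]
  | succ k ih => rw [pow_succ, mul_smul, h, ih]

theorem fixed_congr {G α : Type*} [Group G] [MulAction G α] [Finite α] {s x : G} (hc : Commute s x) {ℓ : ℕ}
    (hℓ : ℓ.Prime) (hx : orderOf x = ℓ) (hs : (orderOf s).Coprime ℓ) :
    Nat.card (MulAction.fixedBy α s) ≡ Nat.card (MulAction.fixedBy α (s * x)) [MOD ℓ] := by
  classical
  have := Fact.mk hℓ
  obtain ⟨⟨k1, hk1⟩, ⟨k2, hk2⟩⟩ := exists_pow_of_coprime hc (hx.symm ▸ hs)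
  have hf : ∀ y : MulAction.fixedBy α s, x • (y : α) ∈ MulAction.fixedBy α s := fun y => by
    rw [MulAction.mem_fixedBy, ← mul_smul, hc.eq, mul_smul, (MulAction.mem_fixedBy.1 y.2)]
  let f : Function.End (MulAction.fixedBy α s) := fun y => ⟨x • (y : α), hf y⟩
  have hfn : ∀ (n : ℕ) (y : MulAction.fixedBy α s), (((f ^ n) y : MulAction.fixedBy α s) : α) = x ^ n • (y : α) := by
    intro n
    induction n with
    | zero => intro y; rw [pow_zero, pow_zero, one_smul]; rfl
    | succ n ih =>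
      intro y
      rw [pow_succ, pow_succ, mul_smul]
      exact ih (f y)
  have hfℓ : f ^ ℓ ^ 1 = 1 := by
    funext y
    apply Subtype.ext
    rw [hfn, pow_one, ← hx, pow_orderOf_eq_one, one_smul]
    rfl
  have : Fintype (MulAction.fixedBy α s) := Fintype.ofFinite _
  have h1 := Equiv.Perm.card_fixedPoints_modEq hfℓ
  rw [← Nat.card_eq_fintype_card, ← Nat.card_eq_fintype_card] at h1
  refine h1.trans ?_
  rw [Nat.card_congr (β := MulAction.fixedBy α (s * x))]
  exact
    { toFun := fun y => ⟨y.1.1, by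
        have h2 : x • (y.1.1 : α) = y.1.1 := congrArg Subtype.val y.2
        rw [MulAction.mem_fixedBy, mul_smul, h2]
        exact MulAction.mem_fixedBy.1 y.1.2⟩
      invFun := fun z => ⟨⟨z.1, by
        have h2 := pow_smul_eq (MulAction.mem_fixedBy.1 z.2) k1
        rw [hk1] at h2
        exact MulAction.mem_fixedBy.2 h2⟩, by
        have h2 := pow_smul_eq (MulAction.mem_fixedBy.1 z.2) k2
        rw [hk2] at h2
        exact Subtype.ext h2⟩
      left_inv := fun y => rfl
      right_inv := fun z => rfl }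

/-- **The Steinberg character modulo `ℓ`.** -/
theorem st_sq {D : Cfsg.Lie.ChevalleyDatum} (hD : D ∈ [Cfsg.Lie.chevG2, Cfsg.Lie.chevB2, Cfsg.Lie.chevD4,
      Cfsg.Lie.chevF4, Cfsg.Lie.chevE6, Cfsg.Lie.chevE7, Cfsg.Lie.chevE8]) {F : Type u} [Field F] [Fintype F]
    {p : ℕ} [Fact p.Prime] [CharP F p] {s x : ↥(D.group F)} (hc : Commute s x) {ℓ : ℕ} (hℓ : ℓ.Prime)
    (hx : orderOf x = ℓ) (hℓp : ℓ ≠ p) (hs : (orderOf s).Prime) (hsℓ : orderOf s ≠ ℓ) (hsp : orderOf s ≠ p)
    (hcx : ¬ p ∣ Nat.card (centralizer ({x} : Set ↥(D.group F)))) :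
    ℓ ∣ p ^ (2 * v p (centralizer ({s} : Set ↥(D.group F)))) - 1 := by
  have hp : p.Prime := Fact.out
  have hfin : Finite ↥(D.group F) := by
    have : Finite (Matrix.GeneralLinearGroup D.Idx F) := inferInstance
    infer_instance
  have hcop : (orderOf s).Coprime ℓ := (Nat.coprime_primes hs hℓ).2 hsℓ
  obtain ⟨-, ⟨k2, hk2⟩⟩ := exists_pow_of_coprime hc (hx.symm ▸ hcop)
  -- the orders
  have ho : orderOf (s * x) = orderOf s * ℓ := by
    rw [hc.orderOf_mul_eq_mul_orderOf_of_coprime (hx.symm ▸ hcop), hx]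
  have hps : ¬ p ∣ orderOf s := fun h => hsp ((Nat.prime_dvd_prime_iff_eq hp hs).1 h).symm
  have hpsx : ¬ p ∣ orderOf (s * x) := by
    rw [ho, hp.dvd_mul]
    rintro (h | h)
    · exact hps h
    · exact hℓp ((Nat.prime_dvd_prime_iff_eq hp hℓ).1 h).symm
  have hv0 : v p (centralizer ({s * x} : Set ↥(D.group F))) = 0 := by
    apply v_eq_zero
    intro h
    apply hcx
    refine h.trans (card_dvd_of_le fun y hy => ?_)
    rw [mem_centralizer_singleton_iff] at hy ⊢
    rw [← hk2]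
    exact ((show Commute y (s * x) from hy).pow_right k2).eq
  -- the integers
  let A : ↥(D.group F) → ℤ := fun g => ∑ J ∈ (Finset.range D.rank).powerset,
    (-1 : ℤ) ^ J.card * (Nat.card (MulAction.fixedBy (↥(D.group F) ⧸ D.parabolicIn F J) g) : ℤ)
  have hA : ∀ g, (A g : ℂ) = D.steinbergCharacter F g := by
    intro g
    show ((∑ J ∈ (Finset.range D.rank).powerset,
      (-1 : ℤ) ^ J.card * (Nat.card (MulAction.fixedBy (↥(D.group F) ⧸ D.parabolicIn F J) g) : ℤ) : ℤ) : ℂ) =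
      ∑ J ∈ (Finset.range D.rank).powerset, (-1 : ℂ) ^ J.card * fixedPointCharacter (D.parabolicIn F J) g
    push_cast
    rfl
  have hdvd : (ℓ : ℤ) ∣ A s - A (s * x) := by
    show (ℓ : ℤ) ∣ (∑ J ∈ (Finset.range D.rank).powerset,
      (-1 : ℤ) ^ J.card * (Nat.card (MulAction.fixedBy (↥(D.group F) ⧸ D.parabolicIn F J) s) : ℤ)) -
      ∑ J ∈ (Finset.range D.rank).powerset,
      (-1 : ℤ) ^ J.card * (Nat.card (MulAction.fixedBy (↥(D.group F) ⧸ D.parabolicIn F J) (s * x)) : ℤ)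
    rw [← Finset.sum_sub_distrib]
    refine Finset.dvd_sum fun J _ => ?_
    rw [← mul_sub]
    refine Dvd.dvd.mul_left ?_ _
    exact (Nat.modEq_iff_dvd.1 (fixed_congr (α := ↥(D.group F) ⧸ D.parabolicIn F J) hc hℓ hx hcop).symm)
  have hsq : ∀ (g : ↥(D.group F)), ¬ p ∣ orderOf g →
      A g ^ 2 = (p : ℤ) ^ (2 * v p (centralizer ({g} : Set ↥(D.group F)))) := by
    intro g hg
    have h1 := Cfsg.Agent.S2312.result p D hD g hg
    rw [← hA] at h1
    have h2 : A g = ((p ^ v p (centralizer ({g} : Set ↥(D.group F))) : ℕ) : ℤ) ∨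
        A g = -((p ^ v p (centralizer ({g} : Set ↥(D.group F))) : ℕ) : ℤ) := by
      rcases h1 with h1 | h1
      · left
        exact_mod_cast h1
      · right
        exact_mod_cast h1
    rcases h2 with h2 | h2
    · rw [h2]; push_cast; ring
    · rw [h2]; push_cast; ring
  have h1 := hsq s hps
  have h2 := hsq (s * x) hpsx
  rw [hv0, mul_zero, pow_zero] at h2
  have h3 : (ℓ : ℤ) ∣ (p : ℤ) ^ (2 * v p (centralizer ({s} : Set ↥(D.group F)))) - 1 := by
    rw [← h1, ← h2]
    have h4 : A s ^ 2 - A (s * x) ^ 2 = (A s - A (s * x)) * (A s + A (s * x)) := by ring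
    rw [h4]
    exact Dvd.dvd.mul_right hdvd _
  have h5 : ((p ^ (2 * v p (centralizer ({s} : Set ↥(D.group F)))) - 1 : ℕ) : ℤ) =
      (p : ℤ) ^ (2 * v p (centralizer ({s} : Set ↥(D.group F)))) - 1 := by
    rw [Nat.cast_sub (Nat.one_le_pow _ _ hp.pos)]
    push_cast
    ring
  rw [← h5] at h3
  exact Int.natCast_dvd_natCast.1 h3

end Cfsg.Agent.H5.PD
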