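import Cfsg.Agent.H5.PD.Norm
import Cfsg.Agent.H5.PD.Gen
import Cfsg.Agent.H719.RowGen

/-!
# S4246: the tori of the exceptional Chevalley groups (helper5)
-/

set_option autoImplicit false
set_option linter.unusedSectionVars false

namespace Cfsg.Agent.H5.PD

open CoxeterSystem Subgroup Cfsg Cfsg.Lie Cfsg.Lie.ChevalleyDatum
open Cfsg.Agent.ChevalleyStructure Cfsg.Agent.ChevalleyStructure.Elts Cfsg.Agent.ChevalleyStructure.CoxeterGeom
  Cfsg.Agent.ChevalleyStructure.CoxeterGeomTypes Cfsg.Agent.Nodes.RGDChev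
open Cfsg.Agent.H378.ExcAdj Cfsg.Agent.H568.FldExc Cfsg.Agent.H70.OutCount
open Cfsg.Agent.H160.PD

universe u

/-! ### numbers -/

/-- the value of the cyclotomic polynomial -/
noncomputable def cyc (m q : ℕ) : ℕ := ((Polynomial.cyclotomic m ℤ).eval ((q : ℕ) : ℤ)).natAbs

theorem od_eq_of_dvd {q t m : ℕ} (ht : t.Prime) (htm : ¬ t ∣ m) (h : t ∣ cyc m q) : od q t = m := by
  have := Fact.mk ht
  have : NeZero ((m : ℕ) : ZMod t) := ⟨fun h0 => htm ((ZMod.natCast_eq_zero_iff m t).1 h0)⟩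
  have h1 : (t : ℤ) ∣ (Polynomial.cyclotomic m ℤ).eval ((q : ℕ) : ℤ) := Int.natCast_dvd.2 h
  rw [← ZMod.intCast_zmod_eq_zero_iff_dvd] at h1
  have h3 : (((Polynomial.cyclotomic m ℤ).eval ((q : ℕ) : ℤ) : ℤ) : ZMod t) =
      (Polynomial.cyclotomic m (ZMod t)).eval ((q : ℕ) : ZMod t) := by
    rw [← Polynomial.map_cyclotomic_int m (ZMod t)]
    have h4 := Polynomial.eval_intCast_map (Int.castRingHom (ZMod t)) (Polynomial.cyclotomic m ℤ) ((q : ℕ) : ℤ)
    rw [Int.cast_natCast] at h4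
    rw [h4]
    rfl
  rw [h3] at h1
  exact (Polynomial.isRoot_cyclotomic_iff.1 h1).eq_orderOf.symm

theorem cyc_dvd (m : ℕ) {q : ℕ} (hq : 1 ≤ q) : cyc m q ∣ q ^ m - 1 := by
  have h2 := Polynomial.eval_dvd (x := ((q : ℕ) : ℤ)) (Polynomial.cyclotomic.dvd_X_pow_sub_one m ℤ)
  have h3 : ((q ^ m - 1 : ℕ) : ℤ) = (Polynomial.X ^ m - 1 : Polynomial ℤ).eval ((q : ℕ) : ℤ) := by
    rw [Nat.cast_sub (Nat.one_le_pow _ _ hq)]
    simp
  rw [← h3] at h2
  exact Int.natCast_dvd_natCast.1 (by rw [cyc, Int.natCast_natAbs, abs_dvd]; exact h2)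

theorem not_dvd_sub_one {p q i : ℕ} (hp : p.Prime) (hq : 1 ≤ q) (hpq : p ∣ q) (hi : 0 < i) : ¬ p ∣ q ^ i - 1 := by
  intro h
  have h1 : p ∣ q ^ i := hpq.trans (dvd_pow_self q hi.ne')
  have h2 := (Nat.dvd_sub_iff_right (Nat.one_le_pow _ _ hq) h1).1 h
  exact hp.one_lt.ne' (Nat.dvd_one.1 h2)

theorem not_dvd_cyc {p q m : ℕ} (hp : p.Prime) (hq : 1 ≤ q) (hpq : p ∣ q) (hm : 0 < m) : ¬ p ∣ cyc m q := fun h =>
  not_dvd_sub_one hp hq hpq hm (h.trans (cyc_dvd m hq))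

theorem lt_of_od {q r m : ℕ} (hr : r.Prime) (h : od q r = m) (hm : 0 < m) : m < r := by
  have h1 := Nat.le_of_dvd (by have := hr.two_le; omega) (H378.ExcNear.mod_of_od hr h hm)
  have := hr.two_le
  omega

/-- `t ^ (v_t(f) + 1)` divides `q ^ i - 1` if `t` does, `q = p ^ f` -/
theorem lte {p f t i : ℕ} (hp : 1 ≤ p) (ht : t.Prime) (h : t ∣ (p ^ f) ^ i - 1) :
    t ^ (f.factorization t + 1) ∣ (p ^ f) ^ i - 1 := by
  have := Fact.mk ht
  set k := f.factorization t with hk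
  obtain ⟨f', hf'⟩ : ∃ f', f = t ^ k * f' := Nat.ordProj_dvd f t
  have e1 : (p ^ f) ^ i = (p ^ (f' * i)) ^ (t ^ k) := by
    rw [← pow_mul, ← pow_mul]
    congr 1
    nth_rw 1 [hf']
    ring
  have h1 : ∀ n : ℕ, ((p ^ n - 1 : ℕ) : ℤ) = (p : ℤ) ^ n - 1 := fun n => by
    rw [Nat.cast_sub (Nat.one_le_pow _ _ hp)]; push_cast; ring
  have e2 : (((p ^ f) ^ i - 1 : ℕ) : ℤ) = ((p : ℤ) ^ (f' * i)) ^ (t ^ k) - 1 ^ (t ^ k) := by
    rw [e1, ← pow_mul, h1, ← pow_mul, one_pow]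
  have h2 : (t : ℤ) ∣ ((p : ℤ) ^ (f' * i)) ^ (t ^ k) - 1 ^ (t ^ k) := e2 ▸ Int.natCast_dvd_natCast.2 h
  have h3 : (t : ℤ) ∣ (p : ℤ) ^ (f' * i) - 1 := by
    rw [← ZMod.intCast_zmod_eq_zero_iff_dvd] at h2 ⊢
    push_cast at h2 ⊢
    rw [one_pow] at h2
    rwa [ZMod.pow_card_pow] at h2
  have h4 := dvd_sub_pow_of_dvd_sub h3 k
  rw [← e2] at h4
  exact_mod_cast h4

/-! ### the torus -/

variable {D : ChevalleyDatum} {l : ℕ} {M : CoxeterMatrix (Fin l)}

theorem tor_chev (hp : IsType D l M) {B B' : Fin l → Fin l → ℤ} (hB : Cfsg.Agent.BpExc.FamExt.InvC D l 1 B)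
    (hB' : Cfsg.Agent.H129.TorusChar.InvC D l 1 B') {F : Type u} [Field F] [Fintype F] {p f : ℕ} [Fact p.Prime]
    [CharP F p] (hq : Fintype.card F = p ^ f) (hf : 0 < f) (hR : ∀ π ∈ realised hp.inList F, π * π = 1)
    {degs : List ℕ} (hO : OrdF.{u} D degs) {r m : ℕ} (hr : r.Prime) (hod : od (Nat.card F) r = m)
    (hl : m.totient = l) (hlm : l < m) (hm3 : 3 ≤ m) (hrd : r ∣ Nat.card ↥(D.group F))
    (hcyc : ∃ P : Sylow r ↥(D.group F), IsCyclic ↥(P : Subgroup ↥(D.group F)))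
    (hnn : ∀ x : ↥(D.group F), orderOf x = r → (∀ y : ↥(D.group F), orderOf y = p → x * y ≠ y * x) →
      H568.NoNorm p x)
    (hprim : (∃ h, (∀ k, r ∣ p ^ k - 1 → f * h ∣ k) ∧ ∀ d ∈ degs, 0 < d ∧ d < 3 * h) ∨
      (∀ t, t.Prime → t ≠ 2 → ¬ t ∣ f))
    (hpS : (out ↥(D.group F)).factorization p < v p ↥(D.group F))
    (hspec : ∀ s : ↥(D.group F), (orderOf s).Prime → orderOf s ≠ 2 → orderOf s ≠ p → orderOf s ∣ m →
      orderOf s ∣ cyc m (Nat.card F) → ∀ x : ↥(D.group F), orderOf x = r → Commute s x →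
      v p (centralizer ({s} : Set ↥(D.group F))) + (out ↥(D.group F)).factorization p < v p ↥(D.group F)) :
    Tor ↥(D.group F) p r (cyc m (Nat.card F)) (Nat.card M.Group) := by
  have hpp : p.Prime := Fact.out
  have hm : 0 < m := by omega
  have hrF := Fact.mk hr
  have hfin : Finite ↥(D.group F) := by
    have : Finite (Matrix.GeneralLinearGroup D.Idx F) := inferInstance
    infer_instance
  have hW : Finite M.Group := finite_W hp M.toCoxeterSystem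
  have hmr := lt_of_od hr hod hm
  have hq1 : 1 ≤ Nat.card F := Nat.card_pos
  have hpq : p ∣ Nat.card F := by rw [Nat.card_eq_fintype_card, hq]; exact dvd_pow_self p hf.ne'
  have hrF' : ¬ r ∣ Nat.card F := H378.RegFin.not_dvd_q hr hod hm
  have hrp : r ≠ p := by rintro rfl; exact hrF' hpq
  have hN : ¬ p ∣ cyc m (Nat.card F) := not_dvd_cyc hpp hq1 hpq hm
  have hcent : ∀ {t : ℕ}, t.Prime → od (Nat.card F) t = m → ∀ x : ↥(D.group F), orderOf x = t →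
      Nat.card (centralizer ({x} : Set ↥(D.group F))) ∣ cyc m (Nat.card F) := fun ht h x hx =>
    (H378.RegFin.cent_od hp hB one_ne_zero ht hx h hl hlm).2
  refine ⟨hr, by omega, hrp, hrd, hcent hr hod, hN, uniq_of_sylow hcyc, ?_, ?_, ?_, ?_⟩
  · intro x hx
    exact pow_mem_of fun y j hj => pow_comm hp M.toCoxeterSystem hr hrF' hx hj
  · intro x hx
    refine hnn x hx fun y hy hxy => hN ?_
    have hmem : y ∈ centralizer ({x} : Set ↥(D.group F)) := mem_centralizer_singleton_iff.2 hxy.symm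
    rw [← hy]
    exact ((Subgroup.orderOf_mk y hmem) ▸ orderOf_dvd_natCard (⟨y, hmem⟩ :
      centralizer ({x} : Set ↥(D.group F)))).trans (hcent hr hod x hx)
  · intro b hb hb2 x hx hbx
    rcases H719.dich hp hq hf hB' one_ne_zero hR hO hb hb2 (Or.inl (Nat.coprime_one_right _))
      (pow_orderOf_eq_one b) with h1 | ⟨h1, h2⟩
    · exact h1
    · exfalso
      rcases hprim with ⟨h, h3, h4⟩ | h3
      · exact h2 x ⟨hx.symm ▸ hr, hx.symm ▸ hrp, Nat.coprime_one_right _, h, by rw [hx]; exact h3, h4⟩ hbx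
      · exact h3 _ hb hb2 h1
  · intro s hs hs2 hsp x hx hsx
    have hmem : s ∈ centralizer ({x} : Set ↥(D.group F)) := mem_centralizer_singleton_iff.2 hsx
    have h1 : orderOf s ∣ cyc m (Nat.card F) := ((Subgroup.orderOf_mk s hmem) ▸ orderOf_dvd_natCard (⟨s, hmem⟩ :
      centralizer ({x} : Set ↥(D.group F)))).trans (hcent hr hod x hx)
    by_cases h2 : orderOf s ∣ m
    · exact hspec s hs hs2 hsp h2 h1 x hx hsx
    · rw [v_zero_of_dvd (hcent hs (od_eq_of_dvd hs h2 h1) s rfl) hN, zero_add]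
      exact hpS

end Cfsg.Agent.H5.PD
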